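import Groth.Agent.H68.Proj.Smooth
import Groth.Agent.H20.Chow.AffChart
import Groth.Agent.H48.ProjSpace
import Groth.Agent.H18.VA.ProjSpaceBasic

/-!
# Affine-local factorization through projective space

For `f : X ⟶ Y` locally of finite type and affine opens `U ⊆ X`, `V ⊆ Y` with `f(U) ⊆ V`, the
restriction `U ⟶ Y` is an immersion into `P^N_Y` followed by the (smooth, proper) projection.
-/

set_option autoImplicit false
universe u
open CategoryTheory CategoryTheory.Limits AlgebraicGeometry TopologicalSpace Opposite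

namespace Groth.Agent.H68.Proj

/-- `U ⟶ P^N_Y` immersion over `Y` for affine opens `U`, `V` with `f(U) ⊆ V`, `f` locally of finite
type. -/
theorem exists_immersion_projSpaceOver {X Y : Scheme.{u}} (f : X ⟶ Y) [LocallyOfFiniteType f]
    (U : X.Opens) (hU : IsAffineOpen U) (V : Y.Opens) (hV : IsAffineOpen V) (hUV : U ≤ f ⁻¹ᵁ V) :
    ∃ (N : ℕ) (j : (U : Scheme.{u}) ⟶ CohB1.ProjSpaceOver N Y), IsImmersion j ∧
      j ≫ CohB1.ProjSpaceOver.toBase N Y = U.ι ≫ f := by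
  have hft : (f.appLE V U hUV).hom.FiniteType :=
    HasRingHomProperty.appLE (P := @LocallyOfFiniteType) f inferInstance ⟨V, hV⟩ ⟨U, hU⟩ hUV
  algebraize [(f.appLE V U hUV).hom]
  obtain ⟨n, hn, π, hπ⟩ := Algebra.FiniteType.iff_quotient_mvPolynomial'.1
    (inferInstance : Algebra.FiniteType Γ(Y, V) Γ(X, U))
  let e : n ≃ Fin (Fintype.card n) := Fintype.equivFin n
  let a : (U : Scheme.{u}) ⟶ Spec Γ(X, U) := hU.isoSpec.hom
  let b : Spec Γ(X, U) ⟶ Spec (CommRingCat.of (MvPolynomial n Γ(Y, V))) :=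
    Spec.map (CommRingCat.ofHom π.toRingHom)
  let c : Spec (CommRingCat.of (MvPolynomial n Γ(Y, V))) ⟶ 𝔸(n; Spec Γ(Y, V)) :=
    (AffineSpace.SpecIso n Γ(Y, V)).inv
  let d : 𝔸(n; Spec Γ(Y, V)) ⟶ CohB1.ProjSpaceOver (Fintype.card n) (Spec Γ(Y, V)) :=
    Groth.Agent.H20.Chow.chart e (Spec Γ(Y, V))
  let ε : CohB1.ProjSpaceOver (Fintype.card n) (Spec Γ(Y, V)) ⟶
      CohB1.ProjSpaceOver (Fintype.card n) Y :=
    Groth.Agent.H48.projSpaceOverMap (Fintype.card n) hV.fromSpec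
  have hb : IsClosedImmersion b := IsClosedImmersion.spec_of_surjective _ hπ
  have hε : IsOpenImmersion ε :=
    MorphismProperty.of_isPullback (P := @IsOpenImmersion)
      (Groth.Agent.H48.isPullback_projSpaceOverMap (Fintype.card n) hV.fromSpec).flip
      inferInstance
  have hd : IsOpenImmersion d := inferInstance
  refine ⟨Fintype.card n, a ≫ b ≫ c ≫ d ≫ ε, inferInstance, ?_⟩
  have h1 : ε ≫ CohB1.ProjSpaceOver.toBase (Fintype.card n) Y =
      CohB1.ProjSpaceOver.toBase (Fintype.card n) (Spec Γ(Y, V)) ≫ hV.fromSpec :=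
    (Groth.Agent.H48.isPullback_projSpaceOverMap (Fintype.card n) hV.fromSpec).w
  have h2 : d ≫ CohB1.ProjSpaceOver.toBase (Fintype.card n) (Spec Γ(Y, V)) =
      𝔸(n; Spec Γ(Y, V)) ↘ Spec Γ(Y, V) := Groth.Agent.H20.Chow.chart_toBase e _
  have h3 : c ≫ 𝔸(n; Spec Γ(Y, V)) ↘ Spec Γ(Y, V) =
      Spec.map (CommRingCat.ofHom MvPolynomial.C) := AffineSpace.SpecIso_inv_over Γ(Y, V)
  have h4 : b ≫ Spec.map (CommRingCat.ofHom (MvPolynomial.C (σ := n) (R := Γ(Y, V)))) =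
      Spec.map (f.appLE V U hUV) := by
    rw [← Spec.map_comp]
    congr 1
    ext x
    exact π.commutes x
  have h5 : a ≫ hU.fromSpec = U.ι := hU.isoSpec_hom_fromSpec
  calc (a ≫ b ≫ c ≫ d ≫ ε) ≫ CohB1.ProjSpaceOver.toBase (Fintype.card n) Y
      = a ≫ b ≫ c ≫ d ≫ (ε ≫ CohB1.ProjSpaceOver.toBase (Fintype.card n) Y) := by
        simp only [Category.assoc]
    _ = a ≫ b ≫ c ≫ (d ≫ CohB1.ProjSpaceOver.toBase (Fintype.card n) (Spec Γ(Y, V))) ≫
          hV.fromSpec := by rw [h1]; simp only [Category.assoc]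
    _ = a ≫ b ≫ (c ≫ 𝔸(n; Spec Γ(Y, V)) ↘ Spec Γ(Y, V)) ≫ hV.fromSpec := by
        rw [h2]; simp only [Category.assoc]
    _ = a ≫ (b ≫ Spec.map (CommRingCat.ofHom MvPolynomial.C)) ≫ hV.fromSpec := by
        rw [h3]; simp only [Category.assoc]
    _ = a ≫ Spec.map (f.appLE V U hUV) ≫ hV.fromSpec := by rw [h4]
    _ = a ≫ hU.fromSpec ≫ f := by rw [IsAffineOpen.SpecMap_appLE_fromSpec f hV hU hUV]
    _ = U.ι ≫ f := by rw [← Category.assoc, h5]

/-- S17642: the factorization `U ⟶ W ⟶ P ⟶ Y`. -/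
theorem exists_open_closed_smooth_proper {X Y : Scheme.{u}} [IsNoetherian X] (f : X ⟶ Y)
    [LocallyOfFiniteType f] (U : X.Opens) (hU : IsAffineOpen U) (V : Y.Opens)
    (hV : IsAffineOpen V) (hUV : U ≤ f ⁻¹ᵁ V) :
    ∃ (W P : Scheme.{u}) (g : (U : Scheme.{u}) ⟶ W) (h : W ⟶ P) (k : P ⟶ Y),
      IsOpenImmersion g ∧ IsClosedImmersion h ∧ Smooth k ∧ IsProper k ∧
        g ≫ h ≫ k = U.ι ≫ f := by
  obtain ⟨N, j, hj, hjf⟩ := exists_immersion_projSpaceOver f U hU V hV hUV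
  have : IsNoetherianRing Γ(X, U) :=
    IsLocallyNoetherian.component_noetherian (X := X) ⟨U, hU⟩
  have : NoetherianSpace (U : Scheme.{u}) := noetherianSpace_of_isAffineOpen U hU
  have : QuasiCompact j := inferInstance
  refine ⟨j.image, CohB1.ProjSpaceOver N Y, j.toImage, j.imageι, CohB1.ProjSpaceOver.toBase N Y,
    inferInstance, inferInstance, inferInstance, inferInstance, ?_⟩
  rw [← Category.assoc, Scheme.Hom.toImage_imageι, hjf]

end Groth.Agent.H68.Proj
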