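import Groth.Agent.H97.ProjChartIso
import Groth.Prelude.Def_CohB1

/-!
# Projective space is smooth over its base

`P^n_R ⟶ Spec R` and `P^n_S ⟶ S` are smooth, via the standard charts `D₊(X i) ≅ 𝔸^n`
(helper97's `ProjChart.ψ`).
-/

set_option autoImplicit false
universe u
open CategoryTheory CategoryTheory.Limits AlgebraicGeometry TopologicalSpace Opposite
open HomogeneousLocalization

namespace Groth.Agent.H68.Proj

open Groth.Agent.H97

section
variable (n : ℕ) (R : Type u) [CommRing R]

local notation "𝒜" => CohB1.polyGrading n R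

instance isScalarTower_polyGrading' :
    IsScalarTower R (CohB1.polyGrading n R 0) (MvPolynomial (Fin (n + 1)) R) :=
  IsScalarTower.of_algebraMap_eq (R := R) (S := CohB1.polyGrading n R 0)
    (A := MvPolynomial (Fin (n + 1)) R) (fun _ => rfl)

theorem adjoin_X_eq_top :
    Algebra.adjoin (𝒜 0) (Set.range fun i : Fin (n + 1) =>
      (MvPolynomial.X i : MvPolynomial (Fin (n + 1)) R)) = ⊤ := by
  apply Subalgebra.restrictScalars_injective R
  rw [Subalgebra.restrictScalars_top, eq_top_iff, ← MvPolynomial.adjoin_range_X]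
  exact Algebra.adjoin_le Algebra.subset_adjoin

theorem iSup_basicOpen_X_eq_top :
    ⨆ i : Fin (n + 1), Proj.basicOpen 𝒜 (MvPolynomial.X i : MvPolynomial (Fin (n + 1)) R) = ⊤ :=
  Proj.iSup_basicOpen_eq_top' 𝒜 _ (fun i => ⟨1, ProjChart.X_mem R n i⟩) (adjoin_X_eq_top n R)

theorem smooth_cst (i : Fin (n + 1)) :
    (ProjChart.cst R n (Submonoid.powers (MvPolynomial.X i : MvPolynomial (Fin (n + 1)) R))).Smooth := by
  have h1 : (ProjChart.cst R n (Submonoid.powers (MvPolynomial.X i : MvPolynomial (Fin (n + 1)) R))) =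
      (ProjChart.ψ R n i).comp (MvPolynomial.C) := by
    ext a
    rw [RingHom.comp_apply, ProjChart.ψ_C]
  rw [h1]
  refine RingHom.Smooth.comp ?_ (RingHom.Smooth.of_bijective (ProjChart.ψ_bijective R n i))
  have : Algebra.Smooth R (MvPolynomial {j : Fin (n + 1) // j ≠ i} R) :=
    ⟨inferInstance, inferInstance⟩
  exact RingHom.smooth_algebraMap.2 this

theorem smooth_aux :
    Smooth (Proj.toSpecZero 𝒜 ≫ Spec.map (CommRingCat.ofHom (algebraMap R (𝒜 0)))) := by
  refine IsZariskiLocalAtSource.of_iSup_eq_top (P := @Smooth)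
    (fun i : Fin (n + 1) => Proj.basicOpen 𝒜 (MvPolynomial.X i : MvPolynomial (Fin (n + 1)) R))
    (iSup_basicOpen_X_eq_top n R) (fun i => ?_)
  have h1 := Proj.basicOpenIsoSpec_inv_ι 𝒜 (MvPolynomial.X i : MvPolynomial (Fin (n + 1)) R)
    (ProjChart.X_mem R n i) Nat.one_pos
  rw [Iso.inv_comp_eq] at h1
  rw [h1, Category.assoc, MorphismProperty.cancel_left_of_respectsIso (P := @Smooth)]
  rw [Proj.awayι_toSpecZero_assoc, ← Spec.map_comp]
  rw [HasRingHomProperty.Spec_iff (P := @Smooth)]
  exact smooth_cst n R i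

/-- `P^n_R ⟶ Spec R` is smooth. -/
instance smooth_projSpace_toSpec : Smooth (CohB1.ProjSpace.toSpec n R) :=
  smooth_aux n R

end

/-- `P^n_S ⟶ S` is smooth. -/
instance smooth_projSpaceOver_toBase (n : ℕ) (S : Scheme.{u}) :
    Smooth (CohB1.ProjSpaceOver.toBase n S) := by
  unfold CohB1.ProjSpaceOver.toBase
  exact MorphismProperty.pullback_snd (P := @Smooth) _ _ inferInstance

end Groth.Agent.H68.Proj
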